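import Cfsg.Agent.Lib.Helper56.HeK2.ChkP0
import Cfsg.Agent.Lib.Helper56.HeK2.ChkP1
import Cfsg.Agent.Lib.Helper56.HeK2.ChkP2
import Cfsg.Agent.Lib.Helper56.HeK2.ChkP3
import Cfsg.Agent.Lib.Helper56.HeK2.ChkP4
import Cfsg.Agent.Lib.Helper56.HeK2.ChkP5
import Cfsg.Agent.Lib.Helper56.HeK2.ChkP6
import Cfsg.Agent.Lib.Helper56.HeK2.ChkP7
import Cfsg.Agent.Lib.Helper56.HeK2.ChkP8
import Cfsg.Agent.Lib.Helper56.HeK2.ChkP9
import Cfsg.Agent.Lib.Helper56.HeK2.ChkP10
import Cfsg.Agent.Lib.Helper56.HeK2.ChkP11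
import Cfsg.Agent.Lib.Helper56.HeK2.ChkP12
import Cfsg.Agent.Lib.Helper56.HeK2.ChkP13
import Cfsg.Agent.Lib.Helper56.HeK2.ChkP14
import Cfsg.Agent.Lib.Helper56.HeK2.ChkP15
import Cfsg.Agent.Lib.Helper56.HeK2.ChkP16
import Cfsg.Agent.Lib.Helper56.HeK2.ChkP17
import Cfsg.Agent.Lib.Helper56.HeK2.ChkP18
import Cfsg.Agent.Lib.Helper56.HeK2.ChkP19
import Cfsg.Agent.Lib.Helper56.HeK2.ChkP20
import Cfsg.Agent.Lib.Helper56.HeK2.ChkP21
import Cfsg.Agent.Lib.Helper56.HeK2.ChkP22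
import Cfsg.Agent.Lib.Helper56.HeK2.ChkP23
import Cfsg.Agent.Lib.Helper56.HeK2.ChkP24
import Cfsg.Agent.Lib.Helper56.HeK2.ChkP25
import Cfsg.Agent.Lib.Helper56.HeK2.ChkP26
import Cfsg.Agent.Lib.Helper56.HeK2.ChkP27
import Cfsg.Agent.Lib.Helper56.HeK2.ChkP28
import Cfsg.Agent.Lib.Helper56.HeK2.ChkP29
import Cfsg.Agent.Lib.Helper56.HeK2.ChkP30
import Cfsg.Agent.Lib.Helper56.HeK2.ChkP31
import Cfsg.Agent.Lib.Helper56.HeK2.ChkP32
import Cfsg.Agent.Lib.Helper56.HeK2.ChkP33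
import Cfsg.Agent.Lib.Helper56.HeK2.ChkP34
import Cfsg.Agent.Lib.Helper56.HeK2.ChkP35
import Cfsg.Agent.Lib.Helper56.HeK2.ChkP36
import Cfsg.Agent.Lib.Helper56.HeK2.ChkP37
import Cfsg.Agent.Lib.Helper56.HeK2.ChkP38
import Cfsg.Agent.Lib.Helper56.HeK2.ChkP39
import Cfsg.Agent.Lib.Helper56.HeK2.ChkP40
import Cfsg.Agent.Lib.Helper56.HeK2.ChkP41
import Cfsg.Agent.Lib.Helper56.HeK2.ChkP42
import Cfsg.Agent.Lib.Helper56.HeK2.ChkP43
import Cfsg.Agent.Lib.Helper56.HeK2.ChkP44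
import Cfsg.Agent.Lib.Helper56.HeK2.ChkP45
import Cfsg.Agent.Lib.Helper56.HeK2.ChkP46
import Cfsg.Agent.Lib.Helper56.HeK2.ChkP47
import Cfsg.Agent.Lib.Helper56.HeK2.ChkP48
import Cfsg.Agent.Lib.Helper56.HeK2.ChkP49
import Cfsg.Agent.Lib.Helper56.HeK2.ChkP50
import Cfsg.Agent.Lib.Helper56.HeK2.ChkP51
import Cfsg.Agent.Lib.Helper56.HeK2.ChkP52
import Cfsg.Agent.Lib.Helper56.HeK2.ChkP53
import Cfsg.Agent.Lib.Helper56.HeK2.ChkP54
import Cfsg.Agent.Lib.Helper56.HeK2.ChkP55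
import Cfsg.Agent.Lib.Helper56.HeK2.ChkP56
import Cfsg.Agent.Lib.Helper56.HeK2.ChkP57
import Cfsg.Agent.Lib.Helper56.HeK2.ChkP58
import Cfsg.Agent.Lib.Helper56.HeK2.ChkP59
import Cfsg.Agent.Lib.Helper56.HeK2.ChkP60
import Cfsg.Agent.Lib.Helper56.HeK2.ChkP61
import Cfsg.Agent.Lib.Helper56.HeK2.ChkP62
import Cfsg.Agent.Lib.Helper56.HeK2.ChkP63
import Cfsg.Agent.Lib.Helper56.HeK2.ChkP64
import Cfsg.Agent.Lib.Helper56.HeK2.ChkP65
import Cfsg.Agent.Lib.Helper56.HeK2.ChkP66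
import Cfsg.Agent.Lib.Helper56.HeK2.ChkP67
import Cfsg.Agent.Lib.Helper56.HeK2.ChkP68
import Cfsg.Agent.Lib.Helper56.HeK2.ChkP69
import Cfsg.Agent.Lib.Helper56.HeK2.ChkP70
import Cfsg.Agent.Lib.Helper56.HeK2.ChkP71
import Cfsg.Agent.Lib.Helper56.HeK2.ChkP72
import Cfsg.Agent.Lib.Helper56.HeK2.ChkP73
import Cfsg.Agent.Lib.Helper56.HeK2.ChkP74
import Cfsg.Agent.Lib.Helper56.HeK2.ChkP75
import Cfsg.Agent.Lib.Helper56.HeK2.ChkP76
import Cfsg.Agent.Lib.Helper56.HeK2.ChkP77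
import Cfsg.Agent.Lib.Helper56.HeK2.ChkP78
import Cfsg.Agent.Lib.Helper56.HeK2.ChkP79
import Cfsg.Agent.Lib.Helper56.HeK2.ChkP80
import Cfsg.Agent.Lib.Helper56.HeK2.ChkP81
import Cfsg.Agent.Lib.Helper56.HeK2.ChkP82
import Cfsg.Agent.Lib.Helper56.HeK2.ChkP83
import Cfsg.Agent.Lib.Helper56.HeK2.ChkP84
import Cfsg.Agent.Lib.Helper56.HeK2.ChkP85
import Cfsg.Agent.Lib.Helper56.HeK2.ChkP86
import Cfsg.Agent.Lib.Helper56.HeK2.ChkP87
import Cfsg.Agent.Lib.Helper56.HeK2.ChkP88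
import Cfsg.Agent.Lib.Helper56.HeK2.ChkP89
import Cfsg.Agent.Lib.Helper56.HeK2.ChkP90
import Cfsg.Agent.Lib.Helper56.HeK2.ChkP91
import Cfsg.Agent.Lib.Helper56.HeK2.ChkP92
import Cfsg.Agent.Lib.Helper56.HeK2.ChkP93
import Cfsg.Agent.Lib.Helper56.HeK2.ChkP94
import Cfsg.Agent.Lib.Helper56.HeK2.ChkP95
import Cfsg.Agent.Lib.Helper56.HeK2.ChkP96
import Cfsg.Agent.Lib.Helper56.HeK2.ChkP97
import Cfsg.Agent.Lib.Helper56.HeK2.ChkP98
import Cfsg.Agent.Lib.Helper56.HeK2.ChkP99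
import Cfsg.Agent.Lib.Helper56.HeK2.ChkP100
import Cfsg.Agent.Lib.Helper56.HeK2.ChkP101
import Cfsg.Agent.Lib.Helper56.HeK2.ChkP102
import Cfsg.Agent.Lib.Helper56.HeK2.ChkP103
import Cfsg.Agent.Lib.Helper56.HeK2.ChkP104
import Cfsg.Agent.Lib.Helper56.HeK2.ChkP105
import Cfsg.Agent.Lib.Helper56.HeK2.ChkP106
import Cfsg.Agent.Lib.Helper56.HeK2.ChkP107
import Cfsg.Agent.Lib.Helper56.HeK2.ChkP108
import Cfsg.Agent.Lib.Helper56.HeK2.ChkP109
import Cfsg.Agent.Lib.Helper56.HeK2.ChkP110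
import Cfsg.Agent.Lib.Helper56.HeK2.ChkP111
import Cfsg.Agent.Lib.Helper56.HeK2.ChkP112
import Cfsg.Agent.Lib.Helper56.HeK2.ChkP113
import Cfsg.Agent.Lib.Helper56.HeK2.ChkP114
import Cfsg.Agent.Lib.Helper56.HeK2.ChkP115
import Cfsg.Agent.Lib.Helper56.HeK2.ChkP116
import Cfsg.Agent.Lib.Helper56.HeK2.ChkP117
import Cfsg.Agent.Lib.Helper56.HeK2.ChkP118
import Cfsg.Agent.Lib.Helper56.HeK2.ChkP119
import Cfsg.Agent.Lib.Helper56.HeK2.ChkP120
import Cfsg.Agent.Lib.Helper56.HeK2.ChkP121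
import Cfsg.Agent.Lib.Helper56.HeK2.ChkP122
import Cfsg.Agent.Lib.Helper56.HeK2.ChkP123
import Cfsg.Agent.Lib.Helper56.HeK2.ChkP124
import Cfsg.Agent.Lib.Helper56.HeK2.ChkP125
import Cfsg.Agent.Lib.Helper56.HeK2.ChkP126
import Cfsg.Agent.Lib.Helper56.HeK2.ChkP127
import Cfsg.Agent.Lib.Helper56.HeK2.ChkP128
import Cfsg.Agent.Lib.Helper56.HeK2.ChkP129
import Cfsg.Agent.Lib.Helper56.HeK2.ChkP130
import Cfsg.Agent.Lib.Helper56.HeK2.ChkP131
import Cfsg.Agent.Lib.Helper56.HeK2.ChkP132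
import Cfsg.Agent.Lib.Helper56.HeK2.ChkP133
import Cfsg.Agent.Lib.Helper56.HeK2.ChkP134
import Cfsg.Agent.Lib.Helper56.HeK2.ChkP135
import Cfsg.Agent.Lib.Helper56.HeK2.ChkP136
import Cfsg.Agent.Lib.Helper56.HeK2.ChkP137
import Cfsg.Agent.Lib.Helper56.HeK2.ChkP138
import Cfsg.Agent.Lib.Helper56.HeK2.ChkP139
import Cfsg.Agent.Lib.Helper56.HeK2.ChkP140
import Cfsg.Agent.Lib.Helper56.HeK2.ChkP141
import Cfsg.Agent.Lib.Helper56.HeK2.ChkP142
import Cfsg.Agent.Lib.Helper56.HeK2.ChkP143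
import Cfsg.Agent.Lib.Helper56.HeK2.ChkP144
import Cfsg.Agent.Lib.Helper56.HeK2.ChkP145
import Cfsg.Agent.Lib.Helper56.HeK2.ChkP146
import Cfsg.Agent.Lib.Helper56.HeK2.ChkP147
import Cfsg.Agent.Lib.Helper56.HeK2.ChkP148
import Cfsg.Agent.Lib.Helper56.HeK2.ChkP149
import Cfsg.Agent.Lib.Helper56.HeK2.ChkP150
import Cfsg.Agent.Lib.Helper56.HeK2.ChkP151
import Cfsg.Agent.Lib.Helper56.HeK2.ChkP152
import Cfsg.Agent.Lib.Helper56.HeK2.ChkP153
import Cfsg.Agent.Lib.Helper56.HeK2.ChkP154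
import Cfsg.Agent.Lib.Helper56.HeK2.ChkP155
import Cfsg.Agent.Lib.Helper56.HeK2.ChkP156
import Cfsg.Agent.Lib.Helper56.HeK2.ChkP157
import Cfsg.Agent.Lib.Helper56.HeK2.ChkP158
import Cfsg.Agent.Lib.Helper56.HeK2.ChkP159
import Cfsg.Agent.Lib.Helper56.HeK2.ChkP160
import Cfsg.Agent.Lib.Helper56.HeK2.ChkP161
import Cfsg.Agent.Lib.Helper56.HeK2.ChkP162
import Cfsg.Agent.Lib.Helper56.HeK2.ChkP163
import Cfsg.Agent.Lib.Helper56.HeK2.ChkP164
import Cfsg.Agent.Lib.Helper56.HeK2.ChkP165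
import Cfsg.Agent.Lib.Helper56.HeK2.ChkP166
import Cfsg.Agent.Lib.Helper56.HeK2.ChkP167
import Cfsg.Agent.Lib.Helper56.HeK2.ChkP168
import Cfsg.Agent.Lib.Helper56.HeK2.ChkP169
import Cfsg.Agent.Lib.Helper56.HeK2.ChkP170
import Cfsg.Agent.Lib.Helper56.HeK2.ChkP171
import Cfsg.Agent.Lib.Helper56.HeK2.ChkP172
import Cfsg.Agent.Lib.Helper56.HeK2.ChkP173
import Cfsg.Agent.Lib.Helper56.HeK2.ChkP174
import Cfsg.Agent.Lib.Helper56.HeK2.ChkP175
import Cfsg.Agent.Lib.Helper56.HeK2.ChkP176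
import Cfsg.Agent.Lib.Helper56.HeK2.ChkP177
import Cfsg.Agent.Lib.Helper56.HeK2.ChkP178
import Cfsg.Agent.Lib.Helper56.HeK2.ChkP179
import Cfsg.Agent.Lib.Helper56.HeK2.ChkP180
import Cfsg.Agent.Lib.Helper56.HeK2.ChkP181
import Cfsg.Agent.Lib.Helper56.HeK2.ChkP182
import Cfsg.Agent.Lib.Helper56.HeK2.ChkP183
import Cfsg.Agent.Lib.Helper56.HeK2.ChkP184
import Cfsg.Agent.Lib.Helper56.HeK2.ChkP185
import Cfsg.Agent.Lib.Helper56.HeK2.ChkP186
import Cfsg.Agent.Lib.Helper56.HeK2.ChkP187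
import Cfsg.Agent.Lib.Helper56.HeK2.ChkP188
import Cfsg.Agent.Lib.Helper56.HeK2.ChkP189
import Cfsg.Agent.Lib.Helper56.HeK2.ChkP190
import Cfsg.Agent.Lib.Helper56.HeK2.ChkP191
import Cfsg.Agent.Lib.Helper56.HeK2.ChkP192
import Cfsg.Agent.Lib.Helper56.HeK2.ChkP193
import Cfsg.Agent.Lib.Helper56.HeK2.ChkP194
import Cfsg.Agent.Lib.Helper56.HeK2.ChkP195
import Cfsg.Agent.Lib.Helper56.HeK2.ChkF0
import Cfsg.Agent.Lib.Helper56.HeK2.ChkF1
import Cfsg.Agent.Lib.Helper56.HeK2.ChkF2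
import Cfsg.Agent.Lib.Helper56.HeK2.ChkF3
import Cfsg.Agent.Lib.Helper56.HeK2.ChkF4
import Cfsg.Agent.Lib.Helper56.HeK2.ChkF5
import Cfsg.Agent.Lib.Helper56.HeK2.ChkF6
import Cfsg.Agent.Lib.Helper56.HeK2.ChkF7
import Cfsg.Agent.Lib.Helper56.HeK2.ChkF8
import Cfsg.Agent.Lib.Helper56.HeK2.ChkF9
import Cfsg.Agent.Lib.Helper56.HeK2.ChkF10
import Cfsg.Agent.Lib.Helper56.HeK2.ChkF11
import Cfsg.Agent.Lib.Helper56.HeK2.ChkF12
import Cfsg.Agent.Lib.Helper56.HeK2.ChkF13
import Cfsg.Agent.Lib.Helper56.HeK2.ChkF14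
import Cfsg.Agent.Lib.Helper56.HeK2.ChkF15
import Cfsg.Agent.Lib.Helper56.HeK2.ChkF16
import Cfsg.Agent.Lib.Helper56.HeK2.ChkF17
import Cfsg.Agent.Lib.Helper56.HeK2.ChkF18
import Cfsg.Agent.Lib.Helper56.HeK2.ChkF19
import Cfsg.Agent.Lib.Helper56.HeK2.ChkF20
import Cfsg.Agent.Lib.Helper56.HeK2.ChkF21
import Cfsg.Agent.Lib.Helper56.HeK2.ChkF22
import Cfsg.Agent.Lib.Helper56.HeK2.ChkF23
import Cfsg.Agent.Lib.Helper56.HeK2.ChkF24
import Cfsg.Agent.Lib.Helper56.HeK2.ChkF25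
import Cfsg.Agent.Lib.Helper56.HeK2.ChkF26
import Cfsg.Agent.Lib.Helper56.HeK2.ChkF27
import Cfsg.Agent.Lib.Helper56.HeK2.ChkF28
import Cfsg.Agent.Lib.Helper56.HeK2.ChkF29
import Cfsg.Agent.Lib.Helper56.HeK2.ChkF30
import Cfsg.Agent.Lib.Helper56.HeK2.ChkF31
import Cfsg.Agent.Lib.Helper56.HeK2.ChkF32
import Cfsg.Agent.Lib.Helper56.HeK2.ChkF33
import Cfsg.Agent.Lib.Helper56.HeK2.ChkF34
import Cfsg.Agent.Lib.Helper56.HeK2.ChkF35
import Cfsg.Agent.Lib.Helper56.HeK2.ChkF36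
import Cfsg.Agent.Lib.Helper56.HeK2.ChkF37
import Cfsg.Agent.Lib.Helper56.HeK2.ChkF38
import Cfsg.Agent.Lib.Helper56.HeK2.ChkF39
import Cfsg.Agent.Lib.Helper56.HeK2.ChkF40
import Cfsg.Agent.Lib.Helper56.HeK2.ChkF41
import Cfsg.Agent.Lib.Helper56.HeK2.ChkF42
import Cfsg.Agent.Lib.Helper56.HeK2.ChkF43
import Cfsg.Agent.Lib.Helper56.HeK2.ChkF44
import Cfsg.Agent.Lib.Helper56.HeK2.ChkF45
import Cfsg.Agent.Lib.Helper56.HeK2.ChkF46
import Cfsg.Agent.Lib.Helper56.HeK2.ChkF47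
import Cfsg.Agent.Lib.Helper56.HeK2.ChkF48
import Cfsg.Agent.Lib.Helper56.HeK2.ChkF49
import Cfsg.Agent.Lib.Helper56.HeK2.ChkC0
import Cfsg.Agent.Lib.Helper56.HeK2.ChkC1
import Cfsg.Agent.Lib.Helper56.HeK2.ChkC2
import Cfsg.Agent.Lib.Helper56.HeK2.ChkC3
import Cfsg.Agent.Lib.Helper56.HeK2.ChkC4
import Cfsg.Agent.Lib.Helper56.HeK2.ChkC5
import Cfsg.Agent.Lib.Helper56.HeK2.ChkC6
import Cfsg.Agent.Lib.Helper56.HeK2.ChkC7
import Cfsg.Agent.Lib.Helper56.HeK2.ChkC8
import Cfsg.Agent.Lib.Helper56.HeK2.ChkC9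
import Cfsg.Agent.Lib.Helper56.HeK2.ChkC10
import Cfsg.Agent.Lib.Helper56.HeK2.ChkC11
import Cfsg.Agent.Lib.Helper56.HeK2.ChkC12
import Cfsg.Agent.Lib.Helper56.HeK2.ChkC13
import Cfsg.Agent.Lib.Helper56.HeK2.ChkC14
import Cfsg.Agent.Lib.Helper56.HeK2.ChkC15
import Cfsg.Agent.Lib.Helper56.HeK2.ChkC16
import Cfsg.Agent.Lib.Helper56.HeK2.ChkC17
import Cfsg.Agent.Lib.Helper56.HeK2.ChkC18
import Cfsg.Agent.Lib.Helper56.HeK2.ChkC19
import Cfsg.Agent.Lib.Helper56.HeK2.ChkC20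
import Cfsg.Agent.Lib.Helper56.HeK2.ChkC21
import Cfsg.Agent.Lib.Helper56.HeK2.ChkC22
import Cfsg.Agent.Lib.Helper56.HeK2.ChkC23
import Cfsg.Agent.Lib.Helper56.HeK2.ChkC24
import Cfsg.Agent.Lib.Helper56.HeK2.ChkC25
import Cfsg.Agent.Lib.Helper56.HeK2.ChkC26
import Cfsg.Agent.Lib.Helper56.HeK2.ChkC27
import Cfsg.Agent.Lib.Helper56.HeK2.ChkC28
import Cfsg.Agent.Lib.Helper56.HeK2.ChkC29
import Cfsg.Agent.Lib.Helper56.HeK2.ChkC30
import Cfsg.Agent.Lib.Helper56.HeK2.ChkC31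
import Cfsg.Agent.Lib.Helper56.HeK2.ChkC32
import Cfsg.Agent.Lib.Helper56.HeK2.ChkC33
import Cfsg.Agent.Lib.Helper56.HeK2.ChkC34
import Cfsg.Agent.Lib.Helper56.HeK2.ChkC35
import Cfsg.Agent.Lib.Helper56.HeK2.ChkC36
import Cfsg.Agent.Lib.Helper56.HeK2.ChkC37
import Cfsg.Agent.Lib.Helper56.HeK2.ChkC38
import Cfsg.Agent.Lib.Helper56.HeK2.ChkC39
import Cfsg.Agent.Lib.Helper56.HeK2.ChkC40
import Cfsg.Agent.Lib.Helper56.HeK2.ChkC41
import Cfsg.Agent.Lib.Helper56.HeK2.ChkC42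
import Cfsg.Agent.Lib.Helper56.HeK2.ChkC43
import Cfsg.Agent.Lib.Helper56.HeK2.ChkC44
import Cfsg.Agent.Lib.Helper56.HeK2.ChkC45
import Cfsg.Agent.Lib.Helper56.HeK2.ChkC46
import Cfsg.Agent.Lib.Helper56.HeK2.ChkC47
import Cfsg.Agent.Lib.Helper56.HeK2.ChkC48

set_option autoImplicit false
set_option linter.unusedVariables false

namespace Cfsg.Agent.Lib.Helper56.HeK2

open Cfsg.Spor.He (Gen)
open Cfsg.Agent.Lib.Helper28.TC

noncomputable section

def NNpad : ℕ := 51200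
theorem permP_all : ∀ i, i < nn → permP i = true := by
  refine all_of_blocks nn permP 8 196 (by decide) ?_
  intro k hk
  interval_cases k
  · exact permP_blk0
  · exact permP_blk1
  · exact permP_blk2
  · exact permP_blk3
  · exact permP_blk4
  · exact permP_blk5
  · exact permP_blk6
  · exact permP_blk7
  · exact permP_blk8
  · exact permP_blk9
  · exact permP_blk10
  · exact permP_blk11
  · exact permP_blk12
  · exact permP_blk13
  · exact permP_blk14
  · exact permP_blk15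
  · exact permP_blk16
  · exact permP_blk17
  · exact permP_blk18
  · exact permP_blk19
  · exact permP_blk20
  · exact permP_blk21
  · exact permP_blk22
  · exact permP_blk23
  · exact permP_blk24
  · exact permP_blk25
  · exact permP_blk26
  · exact permP_blk27
  · exact permP_blk28
  · exact permP_blk29
  · exact permP_blk30
  · exact permP_blk31
  · exact permP_blk32
  · exact permP_blk33
  · exact permP_blk34
  · exact permP_blk35
  · exact permP_blk36
  · exact permP_blk37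
  · exact permP_blk38
  · exact permP_blk39
  · exact permP_blk40
  · exact permP_blk41
  · exact permP_blk42
  · exact permP_blk43
  · exact permP_blk44
  · exact permP_blk45
  · exact permP_blk46
  · exact permP_blk47
  · exact permP_blk48
  · exact permP_blk49
  · exact permP_blk50
  · exact permP_blk51
  · exact permP_blk52
  · exact permP_blk53
  · exact permP_blk54
  · exact permP_blk55
  · exact permP_blk56
  · exact permP_blk57
  · exact permP_blk58
  · exact permP_blk59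
  · exact permP_blk60
  · exact permP_blk61
  · exact permP_blk62
  · exact permP_blk63
  · exact permP_blk64
  · exact permP_blk65
  · exact permP_blk66
  · exact permP_blk67
  · exact permP_blk68
  · exact permP_blk69
  · exact permP_blk70
  · exact permP_blk71
  · exact permP_blk72
  · exact permP_blk73
  · exact permP_blk74
  · exact permP_blk75
  · exact permP_blk76
  · exact permP_blk77
  · exact permP_blk78
  · exact permP_blk79
  · exact permP_blk80
  · exact permP_blk81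
  · exact permP_blk82
  · exact permP_blk83
  · exact permP_blk84
  · exact permP_blk85
  · exact permP_blk86
  · exact permP_blk87
  · exact permP_blk88
  · exact permP_blk89
  · exact permP_blk90
  · exact permP_blk91
  · exact permP_blk92
  · exact permP_blk93
  · exact permP_blk94
  · exact permP_blk95
  · exact permP_blk96
  · exact permP_blk97
  · exact permP_blk98
  · exact permP_blk99
  · exact permP_blk100
  · exact permP_blk101
  · exact permP_blk102
  · exact permP_blk103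
  · exact permP_blk104
  · exact permP_blk105
  · exact permP_blk106
  · exact permP_blk107
  · exact permP_blk108
  · exact permP_blk109
  · exact permP_blk110
  · exact permP_blk111
  · exact permP_blk112
  · exact permP_blk113
  · exact permP_blk114
  · exact permP_blk115
  · exact permP_blk116
  · exact permP_blk117
  · exact permP_blk118
  · exact permP_blk119
  · exact permP_blk120
  · exact permP_blk121
  · exact permP_blk122
  · exact permP_blk123
  · exact permP_blk124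
  · exact permP_blk125
  · exact permP_blk126
  · exact permP_blk127
  · exact permP_blk128
  · exact permP_blk129
  · exact permP_blk130
  · exact permP_blk131
  · exact permP_blk132
  · exact permP_blk133
  · exact permP_blk134
  · exact permP_blk135
  · exact permP_blk136
  · exact permP_blk137
  · exact permP_blk138
  · exact permP_blk139
  · exact permP_blk140
  · exact permP_blk141
  · exact permP_blk142
  · exact permP_blk143
  · exact permP_blk144
  · exact permP_blk145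
  · exact permP_blk146
  · exact permP_blk147
  · exact permP_blk148
  · exact permP_blk149
  · exact permP_blk150
  · exact permP_blk151
  · exact permP_blk152
  · exact permP_blk153
  · exact permP_blk154
  · exact permP_blk155
  · exact permP_blk156
  · exact permP_blk157
  · exact permP_blk158
  · exact permP_blk159
  · exact permP_blk160
  · exact permP_blk161
  · exact permP_blk162
  · exact permP_blk163
  · exact permP_blk164
  · exact permP_blk165
  · exact permP_blk166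
  · exact permP_blk167
  · exact permP_blk168
  · exact permP_blk169
  · exact permP_blk170
  · exact permP_blk171
  · exact permP_blk172
  · exact permP_blk173
  · exact permP_blk174
  · exact permP_blk175
  · exact permP_blk176
  · exact permP_blk177
  · exact permP_blk178
  · exact permP_blk179
  · exact permP_blk180
  · exact permP_blk181
  · exact permP_blk182
  · exact permP_blk183
  · exact permP_blk184
  · exact permP_blk185
  · exact permP_blk186
  · exact permP_blk187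
  · exact permP_blk188
  · exact permP_blk189
  · exact permP_blk190
  · exact permP_blk191
  · exact permP_blk192
  · exact permP_blk193
  · exact permP_blk194
  · exact permP_blk195

theorem factP_all : ∀ i, i < NNpad → factP i = true := by
  refine allBlocks_spec factP 10 50 ?_
  intro k hk
  interval_cases k
  · exact factP_blk0
  · exact factP_blk1
  · exact factP_blk2
  · exact factP_blk3
  · exact factP_blk4
  · exact factP_blk5
  · exact factP_blk6
  · exact factP_blk7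
  · exact factP_blk8
  · exact factP_blk9
  · exact factP_blk10
  · exact factP_blk11
  · exact factP_blk12
  · exact factP_blk13
  · exact factP_blk14
  · exact factP_blk15
  · exact factP_blk16
  · exact factP_blk17
  · exact factP_blk18
  · exact factP_blk19
  · exact factP_blk20
  · exact factP_blk21
  · exact factP_blk22
  · exact factP_blk23
  · exact factP_blk24
  · exact factP_blk25
  · exact factP_blk26
  · exact factP_blk27
  · exact factP_blk28
  · exact factP_blk29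
  · exact factP_blk30
  · exact factP_blk31
  · exact factP_blk32
  · exact factP_blk33
  · exact factP_blk34
  · exact factP_blk35
  · exact factP_blk36
  · exact factP_blk37
  · exact factP_blk38
  · exact factP_blk39
  · exact factP_blk40
  · exact factP_blk41
  · exact factP_blk42
  · exact factP_blk43
  · exact factP_blk44
  · exact factP_blk45
  · exact factP_blk46
  · exact factP_blk47
  · exact factP_blk48
  · exact factP_blk49

theorem closedP_all : ∀ i, i < nn → closedP i = true := by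
  refine all_of_blocks nn closedP 10 49 (by decide) ?_
  intro k hk
  interval_cases k
  · exact closedP_blk0
  · exact closedP_blk1
  · exact closedP_blk2
  · exact closedP_blk3
  · exact closedP_blk4
  · exact closedP_blk5
  · exact closedP_blk6
  · exact closedP_blk7
  · exact closedP_blk8
  · exact closedP_blk9
  · exact closedP_blk10
  · exact closedP_blk11
  · exact closedP_blk12
  · exact closedP_blk13
  · exact closedP_blk14
  · exact closedP_blk15
  · exact closedP_blk16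
  · exact closedP_blk17
  · exact closedP_blk18
  · exact closedP_blk19
  · exact closedP_blk20
  · exact closedP_blk21
  · exact closedP_blk22
  · exact closedP_blk23
  · exact closedP_blk24
  · exact closedP_blk25
  · exact closedP_blk26
  · exact closedP_blk27
  · exact closedP_blk28
  · exact closedP_blk29
  · exact closedP_blk30
  · exact closedP_blk31
  · exact closedP_blk32
  · exact closedP_blk33
  · exact closedP_blk34
  · exact closedP_blk35
  · exact closedP_blk36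
  · exact closedP_blk37
  · exact closedP_blk38
  · exact closedP_blk39
  · exact closedP_blk40
  · exact closedP_blk41
  · exact closedP_blk42
  · exact closedP_blk43
  · exact closedP_blk44
  · exact closedP_blk45
  · exact closedP_blk46
  · exact closedP_blk47
  · exact closedP_blk48

theorem hotA_lt : hotA < 2 ^ (35 * 51200) := by decide +kernel
theorem hotE0_lt : hotE0 < 2 ^ (35 * 51200) := by decide +kernel
theorem hotE1_lt : hotE1 < 2 ^ (35 * 51200) := by decide +kernel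
theorem hotE2_lt : hotE2 < 2 ^ (35 * 51200) := by decide +kernel
theorem hotE3_lt : hotE3 < 2 ^ (35 * 51200) := by decide +kernel
theorem hotE4_lt : hotE4 < 2 ^ (35 * 51200) := by decide +kernel
theorem hotE5_lt : hotE5 < 2 ^ (35 * 51200) := by decide +kernel
theorem hotE6_lt : hotE6 < 2 ^ (35 * 51200) := by decide +kernel
theorem subFix : allList (fun w => Nat.beq (act tf w 0) 0) subWords = true := by decide +kernel

end

end Cfsg.Agent.Lib.Helper56.HeK2
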