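import Cfsg.Agent.Lib.Helper28.He2058.Main

set_option autoImplicit false

namespace Cfsg.Agent.Lib.Helper56.HeK2

open Cfsg.Spor.He (Gen)
open Cfsg.Agent.Lib.Helper28.TC

/-- the list of generators -/
def gens : List Gen := [Gen.a, Gen.b, Gen.c, Gen.d, Gen.e, Gen.f, Gen.g]

theorem mem_gens (x : Gen) : x ∈ gens := by cases x <;> decide

/-- the subgroup generators, as expressions -/
def subE : List (WE Gen) := [(WE.of Gen.a), (WE.of Gen.c), (WE.of Gen.d), (WE.of Gen.e), (WE.of Gen.f), (WE.of Gen.g)]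

/-- the relators -/
abbrev rels : Set (FreeGroup Gen) := Cfsg.Agent.Lib.Helper28.He2058.rels

/-- the subgroup generators -/
abbrev subS : Set (FreeGroup Gen) := {s | ∃ e ∈ subE, s = e.evalF}

theorem hinv : ∀ x, pval rels x * pval rels x = 1 := Cfsg.Agent.Lib.Helper28.He2058.hinv

end Cfsg.Agent.Lib.Helper56.HeK2
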